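import Groth.Agent.PhiStabLib.Tree

/-! Stability defects of sheaf data: additivity, reduction to elementary sets, spanning trees. -/

set_option autoImplicit false
set_option linter.unusedSectionVars false

universe u

namespace Groth.Agent.PhiStabLib

open PhiStab Finset Groth.Agent.LabGraphLead

variable {V E : Type u} [Fintype V] [Fintype E] [DecidableEq V] [DecidableEq E] (ends : E → V × V)

/-- Indicator of a vertex set. -/
noncomputable def ind (S : Finset V) (v : V) : ℝ := if v ∈ S then 1 else 0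

/-- Crossing indicator of an edge. -/
noncomputable def cr (S : Finset V) (e : E) : ℝ := |ind S (ends e).1 - ind S (ends e).2|

/-- The normalised multidegree of a datum. -/
noncomputable def gfun (φ : V → ℝ) (m : V → ℤ) (N : Finset E) (v : V) : ℝ :=
  (m v : ℝ) - φ v + (LabGraph.endCount ends N v : ℝ) / 2

/-- The stability defect of a vertex set. -/
noncomputable def defect (g : V → ℝ) (F : Finset E) (S : Finset V) : ℝ :=
  ∑ v ∈ S, g v + (∑ e ∈ F, cr ends S e) / 2

lemma sum_endCount (S : Finset V) (N : Finset E) :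
    ∑ v ∈ S, (LabGraph.endCount ends N v : ℝ) = ∑ e ∈ N, (ind S (ends e).1 + ind S (ends e).2) := by
  simp only [LabGraph.endCount, Nat.cast_sum, Nat.cast_add, Nat.cast_ite, Nat.cast_one, Nat.cast_zero]
  rw [sum_comm]
  exact sum_congr rfl fun e _ => by simp [sum_add_distrib, ind]

lemma cut_eq (S : Finset V) : (LabGraph.cut ends S : ℝ) = ∑ e, cr ends S e := by
  rw [LabGraph.cut, card_filter, Nat.cast_sum]
  refine sum_congr rfl fun e _ => ?_
  by_cases h1 : (ends e).1 ∈ S <;> by_cases h2 : (ends e).2 ∈ S <;> simp [cr, ind, h1, h2]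

lemma defect_eq (φ : V → ℝ) (m : V → ℤ) (N : Finset E) (S : Finset V) :
    defect ends (gfun ends φ m N) Nᶜ S =
      (degOn ends m N S : ℝ) - ((∑ v ∈ S, φ v) - (LabGraph.cut ends S : ℝ) / 2) := by
  have h : ((N ∩ inner ends S).card : ℝ) =
      (∑ e ∈ N, (ind S (ends e).1 + ind S (ends e).2)) / 2 - (∑ e ∈ N, cr ends S e) / 2 := by
    have : N ∩ inner ends S = N.filter fun e => (ends e).1 ∈ S ∧ (ends e).2 ∈ S := by
      ext e; simp [PhiStab.inner]
    rw [this, card_filter, Nat.cast_sum, ← sub_div, ← sum_sub_distrib, sum_div]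
    refine sum_congr rfl fun e _ => ?_
    by_cases h1 : (ends e).1 ∈ S <;> by_cases h2 : (ends e).2 ∈ S <;> simp [cr, ind, h1, h2]
  rw [defect, cut_eq, ← sum_add_sum_compl N (fun e => cr ends S e), degOn]
  push_cast
  rw [h]
  simp only [gfun, sum_add_distrib, sum_sub_distrib, ← sum_div, sum_endCount]
  ring

lemma sum_gfun (φ : V → ℝ) (m : V → ℤ) (N : Finset E) (h : (∑ v, φ v) = (totDeg m N : ℝ)) :
    ∑ v, gfun ends φ m N v = 0 := by
  simp only [gfun, sum_add_distrib, sum_sub_distrib, ← sum_div, sum_endCount, h, totDeg]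
  simp [ind]

lemma isSemistable_iff (φ : V → ℝ) (m : V → ℤ) (N : Finset E) :
    IsSemistable ends φ m N ↔
      ∀ S : Finset V, S.Nonempty → S ≠ univ → 0 ≤ defect ends (gfun ends φ m N) Nᶜ S := by
  simp only [IsSemistable, defect_eq, sub_nonneg]

lemma isStable_iff (φ : V → ℝ) (m : V → ℤ) (N : Finset E) :
    IsStable ends φ m N ↔
      ∀ S : Finset V, S.Nonempty → S ≠ univ → 0 < defect ends (gfun ends φ m N) Nᶜ S := by
  simp only [IsStable, defect_eq, sub_pos]

lemma cr_compl (S : Finset V) (e : E) : cr ends Sᶜ e = cr ends S e := by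
  by_cases h1 : (ends e).1 ∈ S <;> by_cases h2 : (ends e).2 ∈ S <;> simp [cr, ind, h1, h2]

/-- No edge joins the two sets. -/
def Apart (A B : Finset V) : Prop :=
  ∀ e : E, ¬ (((ends e).1 ∈ A ∧ (ends e).2 ∈ B) ∨ ((ends e).1 ∈ B ∧ (ends e).2 ∈ A))

lemma cr_union {A B : Finset V} (hd : Disjoint A B) (h : Apart ends A B) (e : E) :
    cr ends (A ∪ B) e = cr ends A e + cr ends B e := by
  have hd' : ∀ v, v ∈ A → v ∉ B := fun v hv => Finset.disjoint_left.1 hd hv
  have h' := h e
  by_cases a1 : (ends e).1 ∈ A <;> by_cases a2 : (ends e).2 ∈ A <;>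
    by_cases b1 : (ends e).1 ∈ B <;> by_cases b2 : (ends e).2 ∈ B <;>
    first
      | (simp [cr, ind, a1, a2, b1, b2]; done)
      | (exfalso
         rcases (show (((ends e).1 ∈ A ∧ (ends e).1 ∈ B) ∨ ((ends e).2 ∈ A ∧ (ends e).2 ∈ B)) ∨
            (((ends e).1 ∈ A ∧ (ends e).2 ∈ B) ∨ ((ends e).1 ∈ B ∧ (ends e).2 ∈ A)) by tauto) with
            (h0 | h0) | h0
         · exact hd' _ h0.1 h0.2
         · exact hd' _ h0.1 h0.2
         · exact h' h0)

lemma defect_union {A B : Finset V} (hd : Disjoint A B) (h : Apart ends A B) (g : V → ℝ) (F : Finset E) :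
    defect ends g F (A ∪ B) = defect ends g F A + defect ends g F B := by
  simp only [defect, sum_union hd, cr_union ends hd h, sum_add_distrib]
  ring

lemma exists_split {S : Finset V} (hS : S.Nonempty) (hc : ¬ LabGraph.Connected (indEnds ends S)) :
    ∃ A B : Finset V, A.Nonempty ∧ B.Nonempty ∧ Disjoint A B ∧ A ∪ B = S ∧ Apart ends A B := by
  classical
  obtain ⟨v₀, hv₀⟩ := hS
  have hsymm : Std.Symm (LabGraph.Adj (indEnds ends S)) := ⟨fun a b ⟨e, he⟩ => ⟨e, he.symm⟩⟩
  let P : V → Prop := fun v => ∃ h : v ∈ S,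
    Relation.ReflTransGen (LabGraph.Adj (indEnds ends S)) ⟨v₀, hv₀⟩ ⟨v, h⟩
  refine ⟨S.filter P, S.filter fun v => ¬ P v, ⟨v₀, mem_filter.2 ⟨hv₀, hv₀, .refl⟩⟩, ?_,
    disjoint_filter_filter_not S S P, filter_union_filter_not_eq P S, ?_⟩
  · by_contra hne
    rw [not_nonempty_iff_eq_empty, filter_eq_empty_iff] at hne
    refine hc ⟨⟨⟨v₀, hv₀⟩⟩, fun a b => ?_⟩
    obtain ⟨ha, hra⟩ : P a := not_not.1 (hne a.2)
    obtain ⟨hb, hrb⟩ : P b := not_not.1 (hne b.2)
    haveI := hsymm
    exact (Std.Symm.symm _ _ hra).trans hrb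
  · intro e he
    simp only [mem_filter] at he
    rcases he with ⟨⟨ha, hpa, hra⟩, hb, hnb⟩ | ⟨⟨ha, hna⟩, hb, hpb, hrb⟩
    · exact hnb ⟨hb, hra.tail ⟨⟨e, mem_filter.2 ⟨mem_univ _, ha, hb⟩⟩, Or.inl rfl⟩⟩
    · exact hna ⟨ha, hrb.tail ⟨⟨e, mem_filter.2 ⟨mem_univ _, ha, hb⟩⟩, Or.inr rfl⟩⟩

lemma connected_union {S A B : Finset V} (hconn : LabGraph.Connected ends)
    (hS : LabGraph.Connected (indEnds ends S)) (hAB : A ∪ B = Sᶜ) (hd : Disjoint A B) (h : Apart ends A B) :
    LabGraph.Connected (indEnds ends (S ∪ B)) := by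
  classical
  obtain ⟨⟨s₀⟩, hS⟩ := hS
  let T := S ∪ B
  let s : {v // v ∈ T} := ⟨s₀.1, mem_union_left _ s₀.2⟩
  haveI : Std.Symm (LabGraph.Adj (indEnds ends T)) := ⟨fun a b ⟨e, he⟩ => ⟨e, he.symm⟩⟩
  have hcov : ∀ v, v ∈ S ∨ v ∈ B ∨ v ∈ A := fun v => by
    by_cases hv : v ∈ S
    · exact Or.inl hv
    · have : v ∈ A ∪ B := by rw [hAB]; exact mem_compl.2 hv
      rcases mem_union.1 this with h | h <;> simp [h]
  have hin : ∀ v (hv : v ∈ S),
      Relation.ReflTransGen (LabGraph.Adj (indEnds ends T)) s ⟨v, mem_union_left _ hv⟩ := fun v hv => by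
    have h' := hS s₀ ⟨v, hv⟩
    refine h'.lift (fun x : {v // v ∈ S} => (⟨x.1, mem_union_left _ x.2⟩ : {v // v ∈ T})) ?_
    rintro a b ⟨⟨e, he⟩, hab⟩
    obtain ⟨-, h1, h2⟩ := mem_filter.1 he
    refine ⟨⟨e, mem_filter.2 ⟨mem_univ _, mem_union_left _ h1, mem_union_left _ h2⟩⟩, ?_⟩
    rcases hab with hab | hab
    · exact Or.inl (by simp only [indEnds, Prod.ext_iff, Subtype.ext_iff] at hab ⊢; exact hab)
    · exact Or.inr (by simp only [indEnds, Prod.ext_iff, Subtype.ext_iff] at hab ⊢; exact hab)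
  have hall : ∀ v (hv : v ∈ T), Relation.ReflTransGen (LabGraph.Adj (indEnds ends T)) s ⟨v, hv⟩ := by
    suffices ∀ v, Relation.ReflTransGen (LabGraph.Adj ends) v s₀.1 → ∀ hv : v ∈ T,
        Relation.ReflTransGen (LabGraph.Adj (indEnds ends T)) s ⟨v, hv⟩ from
      fun v hv => this v (hconn.2 _ _) hv
    intro v hv'
    induction hv' using Relation.ReflTransGen.head_induction_on with
    | refl => exact fun _ => .refl
    | @head a c hac _ ih =>
      intro ha
      rcases mem_union.1 ha with haS | haB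
      · exact hin a haS
      obtain ⟨e, he⟩ := hac
      have hc : c ∈ T := by
        rcases hcov c with h1 | h1 | h1
        · exact mem_union_left _ h1
        · exact mem_union_right _ h1
        · refine absurd ?_ (h e)
          rcases he with he | he <;> rw [he] <;> simp [haB, h1]
      refine (ih hc).tail ?_
      rcases he with he | he
      · exact ⟨⟨e, mem_filter.2 ⟨mem_univ _, by rw [he]; exact ha, by rw [he]; exact hc⟩⟩,
          Or.inr (by simp [indEnds, he])⟩
      · exact ⟨⟨e, mem_filter.2 ⟨mem_univ _, by rw [he]; exact hc, by rw [he]; exact ha⟩⟩,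
          Or.inl (by simp [indEnds, he])⟩
  exact ⟨⟨s⟩, fun a b => (Std.Symm.symm _ _ (hall a.1 a.2)).trans (hall b.1 b.2)⟩

lemma defect_of_elementary (hconn : LabGraph.Connected ends) (g : V → ℝ) (hg : ∑ v, g v = 0) (F : Finset E)
    (P : ℝ → Prop) (hadd : ∀ a b, P a → P b → P (a + b))
    (he : ∀ S, IsElementary ends S → P (defect ends g F S)) :
    ∀ S : Finset V, S.Nonempty → S ≠ univ → P (defect ends g F S) := by
  classical
  have claim : ∀ n (S : Finset V), Sᶜ.card = n → LabGraph.Connected (indEnds ends S) → S ≠ univ →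
      P (defect ends g F S) := by
    intro n
    induction n using Nat.strong_induction_on with
    | h n ih =>
      intro S hn hS hne
      by_cases hc : LabGraph.Connected (indEnds ends Sᶜ)
      · exact he S ⟨hS, hc⟩
      obtain ⟨A, B, hA, hB, hd, hAB, hap⟩ :=
        exists_split ends (nonempty_iff_ne_empty.2 fun h => hne (compl_eq_empty_iff S |>.1 h)) hc
      have hSA : Disjoint S A := disjoint_of_subset_right (hAB ▸ subset_union_left) disjoint_compl_right
      have hSB : Disjoint S B := disjoint_of_subset_right (hAB ▸ subset_union_right) disjoint_compl_right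
      have hap' : Apart ends B A := fun e he' => hap e he'.symm
      have hSu : ∀ v, v ∉ S → v ∈ A ∨ v ∈ B := fun v hv => mem_union.1 (hAB ▸ mem_compl.2 hv)
      have e1 : (S ∪ B)ᶜ = A := by
        ext v
        simp only [mem_compl, mem_union, not_or]
        exact ⟨fun h => (hSu v h.1).resolve_right h.2,
          fun h => ⟨fun h' => disjoint_left.1 hSA h' h, disjoint_left.1 hd h⟩⟩
      have e2 : (S ∪ A)ᶜ = B := by
        ext v
        simp only [mem_compl, mem_union, not_or]
        exact ⟨fun h => (hSu v h.1).resolve_left h.2,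
          fun h => ⟨fun h' => disjoint_left.1 hSB h' h, fun h' => disjoint_left.1 hd h' h⟩⟩
      have hcard : A.card + B.card = n := by rw [← hn, ← hAB, card_union_of_disjoint hd]
      have p1 := ih A.card (by have := hB.card_pos; omega) (S ∪ B) (congrArg card e1)
        (connected_union ends hconn hS hAB hd hap)
        (fun h => by rw [h] at e1; simp at e1; exact hA.ne_empty e1.symm)
      have p2 := ih B.card (by have := hA.card_pos; omega) (S ∪ A) (congrArg card e2)
        (connected_union ends hconn hS (by rw [union_comm, hAB]) hd.symm hap')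
        (fun h => by rw [h] at e2; simp at e2; exact hB.ne_empty e2.symm)
      have hcrS : ∀ e, cr ends S e = cr ends A e + cr ends B e := fun e => by
        rw [← cr_compl, ← hAB, cr_union ends hd hap]
      have hSBA : ∀ e, cr ends (S ∪ B) e = cr ends A e := fun e => by rw [← cr_compl, e1]
      have hSAB : ∀ e, cr ends (S ∪ A) e = cr ends B e := fun e => by rw [← cr_compl, e2]
      have hgAB : ∑ v ∈ S, g v + (∑ v ∈ A, g v + ∑ v ∈ B, g v) = 0 := by
        rw [← sum_union hd, hAB, sum_add_sum_compl, hg]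
      have : defect ends g F S = defect ends g F (S ∪ B) + defect ends g F (S ∪ A) := by
        simp only [defect, sum_union hSA, sum_union hSB, hcrS, hSBA, hSAB, sum_add_distrib]
        linarith
      rw [this]
      exact hadd _ _ p1 p2
  intro S
  induction S using Finset.strongInduction with
  | H S ih =>
    intro hS hne
    by_cases hc : LabGraph.Connected (indEnds ends S)
    · exact claim _ S rfl hc hne
    obtain ⟨A, B, hA, hB, hd, hAB, hap⟩ := exists_split ends hS hc
    rw [← hAB, defect_union ends hd hap]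
    subst hAB
    refine hadd _ _ (ih A ?_ hA ?_) (ih B ?_ hB ?_)
    · exact Finset.ssubset_iff_subset_ne.2 ⟨subset_union_left, fun h => by
        obtain ⟨b, hb⟩ := hB
        exact disjoint_left.1 hd (h ▸ mem_union_right _ hb) hb⟩
    · rintro rfl; exact hne (eq_univ_of_forall fun v => mem_union_left _ (mem_univ v))
    · exact Finset.ssubset_iff_subset_ne.2 ⟨subset_union_right, fun h => by
        obtain ⟨a, ha⟩ := hA
        exact disjoint_left.1 hd ha (h ▸ mem_union_left _ ha)⟩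
    · rintro rfl; exact hne (eq_univ_of_forall fun v => mem_union_right _ (mem_univ v))

/-! ### Stable data on a spanning tree -/

lemma abs_sideSum_lt {T : Finset E} (hT : DualGr.IsTree (spanEnds ends T)) (g : V → ℝ) (hg : ∑ v, g v = 0)
    (hpos : ∀ S : Finset V, S.Nonempty → S ≠ univ → 0 < defect ends g T S) (e : {e // e ∈ T}) :
    |∑ v ∈ side (spanEnds ends T) e, g v| < 1 / 2 := by
  classical
  set S := side (spanEnds ends T) e
  have hf : (ends e.1).1 ∈ S := fst_mem_side _ e
  have hs : (ends e.1).2 ∉ S := snd_notMem_side _ hT e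
  have hcr : ∑ x ∈ T, cr ends S x = 1 := by
    rw [sum_eq_single_of_mem e.1 e.2 fun x hx hne => ?_]
    · simp [cr, ind, hf, hs]
    · have hiff : (ends x).1 ∈ S ↔ (ends x).2 ∈ S :=
        side_iff_of_ne (spanEnds ends T) (e' := ⟨x, hx⟩) fun h => hne (congrArg Subtype.val h)
      simp [cr, ind, hiff]
  have h1 := hpos S ⟨_, hf⟩ fun h => hs (h ▸ mem_univ _)
  have h2 := hpos Sᶜ ⟨_, mem_compl.2 hs⟩ fun h => (mem_compl.1 (h ▸ mem_univ (ends e.1).1)) hf
  have hsc : ∑ x ∈ T, cr ends Sᶜ x = 1 := by simp only [cr_compl, hcr]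
  have h3 : ∑ v ∈ S, g v + ∑ v ∈ Sᶜ, g v = 0 := by rw [sum_add_sum_compl, hg]
  simp only [defect, hcr, hsc] at h1 h2
  rw [abs_lt]
  constructor <;> linarith

lemma defect_lower {T : Finset E} (hT : DualGr.IsTree (spanEnds ends T)) (g : V → ℝ) (hg : ∑ v, g v = 0)
    (hh : ∀ e : {e // e ∈ T}, |∑ v ∈ side (spanEnds ends T) e, g v| ≤ 1 / 2) (S : Finset V) :
    |∑ v ∈ S, g v| ≤ (∑ e ∈ T, cr ends S e) / 2 := by
  classical
  have h := pairing (spanEnds ends T) hT g (ind S) hg
  rw [show ∑ v, g v * ind S v = ∑ v ∈ S, g v by simp [ind]] at h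
  rw [h, ← sum_coe_sort T (fun e => cr ends S e), sum_div]
  refine (abs_sum_le_sum_abs _ _).trans (sum_le_sum fun e _ => ?_)
  rw [abs_mul, show cr ends S e.1 / 2 = cr ends S e.1 * (1 / 2) by ring]
  exact mul_le_mul_of_nonneg_left (hh e) (abs_nonneg _)

theorem existsUnique_stable (T : Finset E) (hT : DualGr.IsTree (spanEnds ends T)) (b : ℤ) (φ : V → ℝ)
    (hφ : (∑ v : V, φ v) = (b : ℝ)) (hnd : Nondegenerate ends φ) :
    ∃! m : V → ℤ, totDeg m Tᶜ = b ∧ IsStable ends φ m Tᶜ := by
  classical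
  let φ' : V → ℝ := fun v => φ v - (LabGraph.endCount ends Tᶜ v : ℝ) / 2
  let x : {e // e ∈ T} → ℝ := fun e => ∑ v ∈ side (spanEnds ends T) e, φ' v
  obtain ⟨m, ⟨hm, hm0⟩, -⟩ :=
    existsUnique_sideSum (spanEnds ends T) hT (fun e => ⌈x e - 1 / 2⌉) (b - (Tᶜ.card : ℤ))
  have hg : ∀ (m : V → ℤ) (e : {e // e ∈ T}), ∑ v ∈ side (spanEnds ends T) e, gfun ends φ m Tᶜ v =
      ((∑ v ∈ side (spanEnds ends T) e, m v : ℤ) : ℝ) - x e := fun m e => by
    simp only [gfun, x, φ', Int.cast_sum, ← sum_sub_distrib]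
    exact sum_congr rfl fun v _ => by ring
  have htot : totDeg m Tᶜ = b := by rw [totDeg, hm0, sub_add_cancel]
  have hg0 : ∀ m, totDeg m Tᶜ = b → ∑ v, gfun ends φ m Tᶜ v = 0 := fun m h =>
    sum_gfun ends φ m Tᶜ (by rw [hφ, h])
  have hss : IsSemistable ends φ m Tᶜ := by
    rw [isSemistable_iff, compl_compl]
    intro S _ _
    have := (abs_le.1 (defect_lower ends hT _ (hg0 m htot) (fun e => ?_) S)).1
    · simp only [defect]; linarith
    · rw [hg, hm, abs_le]
      have h1 := Int.ceil_lt_add_one (x e - 1 / 2)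
      have h2 := Int.le_ceil (x e - 1 / 2)
      constructor <;> linarith
  have hst := hnd m Tᶜ (by rw [hφ, htot]) hss
  refine ⟨m, ⟨htot, hst⟩, fun m' ⟨htot', hst'⟩ => ?_⟩
  obtain ⟨u, -, huniq⟩ :=
    existsUnique_sideSum (spanEnds ends T) hT (fun e => ⌈x e - 1 / 2⌉) (b - (Tᶜ.card : ℤ))
  rw [huniq m ⟨hm, hm0⟩]
  refine huniq m' ⟨fun e => ?_, by rw [totDeg] at htot'; linarith⟩
  rw [isStable_iff, compl_compl] at hst hst'
  have a := abs_lt.1 (abs_sideSum_lt ends hT _ (hg0 m htot) hst e)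
  have a' := abs_lt.1 (abs_sideSum_lt ends hT _ (hg0 m' htot') hst' e)
  rw [hg, hm] at a
  rw [hg] at a'
  set n' := ∑ v ∈ side (spanEnds ends T) e, m' v
  have h1 : (n' : ℝ) < (⌈x e - 1 / 2⌉ : ℝ) + 1 := by linarith
  have h2 : (⌈x e - 1 / 2⌉ : ℝ) < (n' : ℝ) + 1 := by linarith
  have h1' : n' < ⌈x e - 1 / 2⌉ + 1 := by exact_mod_cast h1
  have h2' : ⌈x e - 1 / 2⌉ < n' + 1 := by exact_mod_cast h2
  omega

lemma exists_tree_of_elementary (hconn : LabGraph.Connected ends) {S : Finset V} (hS : IsElementary ends S) :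
    ∃ T : Finset E, DualGr.IsTree (spanEnds ends T) ∧ ∑ e ∈ T, cr ends S e = 1 := by
  classical
  obtain ⟨⟨⟨s₀⟩, h1⟩, ⟨t₀⟩, h2⟩ := hS
  haveI := hconn.1
  let A : Finset E := inner ends S ∪ inner ends Sᶜ
  obtain ⟨F, hFA, hF, hFr⟩ := exists_spanning_forest ends A
  have hA : ∀ e ∈ F, ((ends e).1 ∈ S ↔ (ends e).2 ∈ S) := fun e he => by
    have := hFA he
    simp only [A, PhiStab.inner, mem_union, mem_filter, mem_compl, mem_univ, true_and] at this
    tauto
  have hinv : ∀ {a b}, Reach ends F a b → (a ∈ S ↔ b ∈ S) := fun {a b} h => by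
    induction h with
    | rel a b hab => obtain ⟨e, he, hab⟩ := hab; have := hA e he; rwa [hab] at this
    | refl a => rfl
    | symm a b _ ih => exact ih.symm
    | trans a b c _ _ i1 i2 => exact i1.trans i2
  have hind : ∀ (U : Finset V), (∀ e ∈ inner ends U, e ∈ A) → ∀ a b : {v // v ∈ U},
      Relation.ReflTransGen (LabGraph.Adj (indEnds ends U)) a b → Reach ends F a.1 b.1 := by
    intro U hU a b h
    induction h with
    | refl => exact Relation.EqvGen.refl _
    | tail _ hbc ih =>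
      obtain ⟨⟨e, he⟩, hbc⟩ := hbc
      have hr := hFr e (hU e he)
      rcases hbc with hbc | hbc <;> simp only [indEnds, Prod.ext_iff, Subtype.ext_iff] at hbc <;>
        rw [hbc.1, hbc.2] at hr
      · exact ih.trans _ _ _ hr
      · exact ih.trans _ _ _ (hr.symm _ _)
  obtain ⟨e₀, he₀⟩ : ∃ e₀, ¬ ((ends e₀).1 ∈ S ↔ (ends e₀).2 ∈ S) := by
    by_contra hne
    push Not at hne
    have hiff : ∀ a b, Relation.ReflTransGen (LabGraph.Adj ends) a b → (a ∈ S ↔ b ∈ S) := fun a b h => by
      induction h with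
      | refl => rfl
      | tail _ hbc ih =>
        obtain ⟨e, he | he⟩ := hbc
        · have := hne e; rw [he] at this; exact ih.trans this
        · have := hne e; rw [he] at this; exact ih.trans this.symm
    exact (mem_compl.1 t₀.2) ((hiff _ _ (hconn.2 s₀.1 t₀.1)).1 s₀.2)
  have he₀F : e₀ ∉ F := fun h => he₀ (hA _ h)
  refine ⟨insert e₀ F, isTree_spanEnds ends (acyclic_insert ends hF fun h => he₀ (hinv h)) fun v w => ?_, ?_⟩
  · have hmono : ∀ {a b}, Reach ends F a b → Reach ends (insert e₀ F) a b := fun h =>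
      h.mono fun a b ⟨x, hx, hab⟩ => ⟨x, mem_insert_of_mem hx, hab⟩
    have hS' : ∀ a b, a ∈ S → b ∈ S → Reach ends (insert e₀ F) a b := fun a b ha hb =>
      hmono (hind S (fun e he => mem_union_left _ he) ⟨a, ha⟩ ⟨b, hb⟩ (h1 _ _))
    have hT' : ∀ a b, a ∉ S → b ∉ S → Reach ends (insert e₀ F) a b := fun a b ha hb =>
      hmono (hind Sᶜ (fun e he => mem_union_right _ he) ⟨a, mem_compl.2 ha⟩ ⟨b, mem_compl.2 hb⟩ (h2 _ _))
    have hb : Reach ends (insert e₀ F) (ends e₀).1 (ends e₀).2 :=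
      Relation.EqvGen.rel _ _ ⟨e₀, mem_insert_self _ _, rfl⟩
    have hall : ∀ a, Reach ends (insert e₀ F) a (ends e₀).1 := fun a => by
      by_cases ha : a ∈ S <;> by_cases hx : (ends e₀).1 ∈ S
      · exact hS' _ _ ha hx
      · exact (hS' _ _ ha (by tauto)).trans _ _ _ (hb.symm _ _)
      · exact (hT' _ _ ha (by tauto)).trans _ _ _ (hb.symm _ _)
      · exact hT' _ _ ha hx
    exact (hall v).trans _ _ _ ((hall w).symm _ _)
  · rw [sum_insert he₀F, sum_eq_zero fun e he => ?_, add_zero]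
    · by_cases hx : (ends e₀).1 ∈ S
      · simp [cr, ind, hx, show (ends e₀).2 ∉ S by tauto]
      · simp [cr, ind, hx, show (ends e₀).2 ∈ S by tauto]
    · simp [cr, ind, hA e he]

lemma defect_lt_one {T : Finset E} (hT : DualGr.IsTree (spanEnds ends T)) (g : V → ℝ) (hg : ∑ v, g v = 0)
    (hpos : ∀ S : Finset V, S.Nonempty → S ≠ univ → 0 < defect ends g T S) {S : Finset V}
    (hS : ∑ e ∈ T, cr ends S e = 1) (hne : S.Nonempty) (hne' : S ≠ univ) :
    defect ends g T S < 1 := by
  have h1 := hpos Sᶜ (nonempty_iff_ne_empty.2 fun h => hne' (compl_eq_empty_iff S |>.1 h))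
    (fun h => hne.ne_empty (by simpa using congrArg compl h))
  have hsc : ∑ x ∈ T, cr ends Sᶜ x = 1 := by simp only [cr_compl, hS]
  have h3 : ∑ v ∈ S, g v + ∑ v ∈ Sᶜ, g v = 0 := by rw [sum_add_sum_compl, hg]
  simp only [defect, hS, hsc] at h1 ⊢
  linarith

end Groth.Agent.PhiStabLib
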