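import Groth.Prelude.Def_W4c5modbuncurvesppStab
import Groth.Agent.LabGraphLead.Forest
import Mathlib

/-! Trees and the combinatorics of stability of sheaf data on multigraphs. -/

set_option autoImplicit false
set_option linter.unusedSectionVars false

universe u

namespace Groth.Agent.PhiStabLib

open PhiStab Finset Groth.Agent.LabGraphLead

variable {V E : Type u} [Fintype V] [Fintype E] [DecidableEq V] [DecidableEq E] (ends : E → V × V)

lemma reach_of_rtg {F : Finset E} {v w : V}
    (h : Relation.ReflTransGen (LabGraph.Adj (spanEnds ends F)) v w) : Reach ends F v w := by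
  induction h with
  | refl => exact Relation.EqvGen.refl _
  | tail _ hbc ih =>
    obtain ⟨e, he | he⟩ := hbc
    · exact Relation.EqvGen.trans _ _ _ ih (Relation.EqvGen.rel _ _ ⟨e.1, e.2, he⟩)
    · exact Relation.EqvGen.trans _ _ _ ih
        (Relation.EqvGen.symm _ _ (Relation.EqvGen.rel _ _ ⟨e.1, e.2, he⟩))

lemma rtg_of_reach {F : Finset E} {v w : V} (h : Reach ends F v w) :
    Relation.ReflTransGen (LabGraph.Adj (spanEnds ends F)) v w := by
  haveI hs : Std.Symm (LabGraph.Adj (spanEnds ends F)) :=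
    ⟨fun a b ⟨e, he⟩ => ⟨e, he.symm⟩⟩
  induction h with
  | rel a b hab =>
    obtain ⟨e, he, hab⟩ := hab
    exact .single ⟨⟨e, he⟩, Or.inl hab⟩
  | refl a => exact .refl
  | symm a b _ ih => exact Std.Symm.symm _ _ ih
  | trans a b c _ _ i1 i2 => exact i1.trans i2

lemma reach_univ_of_connected (h : LabGraph.Connected ends) (v w : V) : Reach ends univ v w := by
  have h' := h.2 v w
  induction h' with
  | refl => exact Relation.EqvGen.refl _
  | tail _ hbc ih =>
    obtain ⟨e, he | he⟩ := hbc
    · exact Relation.EqvGen.trans _ _ _ ih (Relation.EqvGen.rel _ _ ⟨e, mem_univ _, he⟩)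
    · exact Relation.EqvGen.trans _ _ _ ih
        (Relation.EqvGen.symm _ _ (Relation.EqvGen.rel _ _ ⟨e, mem_univ _, he⟩))

lemma mem_side {e : E} {v : V} : v ∈ side ends e ↔ Reach ends (univ.erase e) (ends e).1 v := by
  classical
  simp only [side, mem_filter, mem_univ, true_and]
  exact ⟨reach_of_rtg ends, rtg_of_reach ends⟩

lemma fst_mem_side (e : E) : (ends e).1 ∈ side ends e := (mem_side ends).2 (Relation.EqvGen.refl _)

lemma snd_notMem_side (hT : DualGr.IsTree ends) (e : E) : (ends e).2 ∉ side ends e := fun h => by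
  obtain ⟨C, -, hC⟩ := exists_circuit_of_reach ends (notMem_erase e univ) ((mem_side ends).1 h)
  exact hT.2 C hC

lemma side_iff_of_ne {e e' : E} (h : e' ≠ e) :
    (ends e').1 ∈ side ends e ↔ (ends e').2 ∈ side ends e := by
  have hr : Reach ends (univ.erase e) (ends e').1 (ends e').2 :=
    Relation.EqvGen.rel _ _ ⟨e', mem_erase.2 ⟨h, mem_univ _⟩, rfl⟩
  simp only [mem_side]
  exact ⟨fun h1 => h1.trans _ _ _ hr, fun h1 => h1.trans _ _ _ (hr.symm _ _)⟩

variable {R : Type*} [CommRing R]

/-- Pairing a total-degree-zero vertex vector against a function, through the side sums of a tree. -/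
lemma pairing (hT : DualGr.IsTree ends) (g ψ : V → R) (hg : ∑ v, g v = 0) :
    ∑ v, g v * ψ v = ∑ e, (ψ (ends e).1 - ψ (ends e).2) * ∑ v ∈ side ends e, g v := by
  let f : V → R := fun x => ψ x + ∑ e, if x ∈ side ends e then ψ (ends e).2 - ψ (ends e).1 else 0
  have hstep : ∀ e', f (ends e').1 = f (ends e').2 := fun e' => by
    simp only [f]
    rw [← add_sum_erase _ _ (mem_univ e'), ← add_sum_erase _ _ (mem_univ e'),
      if_pos (fst_mem_side ends e'), if_neg (snd_notMem_side ends hT e'),
      sum_congr rfl fun e he => if_congr (side_iff_of_ne ends (mem_erase.1 he).1.symm) rfl rfl]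
    ring
  obtain ⟨r⟩ := hT.1.1
  have hconst : ∀ v, f v = f r := fun v => by
    have h := hT.1.2 r v
    induction h with
    | refl => rfl
    | tail _ hbc ih =>
      obtain ⟨e, he | he⟩ := hbc
      · have := hstep e; rw [he] at this; rw [← this, ih]
      · have := hstep e; rw [he] at this; rw [this, ih]
  have h0 : ∑ v, g v * f v = 0 := by simp_rw [hconst, ← sum_mul, hg, zero_mul]
  have h1 : ∑ v, g v * f v =
      ∑ v, g v * ψ v + ∑ e, (ψ (ends e).2 - ψ (ends e).1) * ∑ v ∈ side ends e, g v := by
    simp only [f, mul_add, sum_add_distrib, mul_sum, mul_ite, mul_zero]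
    rw [sum_comm]
    congr 1
    refine sum_congr rfl fun e _ => ?_
    rw [sum_ite_mem, univ_inter]
    exact sum_congr rfl fun v _ => mul_comm _ _
  have h2 : ∑ e, (ψ (ends e).1 - ψ (ends e).2) * ∑ v ∈ side ends e, g v =
      - ∑ e, (ψ (ends e).2 - ψ (ends e).1) * ∑ v ∈ side ends e, g v := by
    rw [← sum_neg_distrib]; exact sum_congr rfl fun e _ => by ring
  rw [h2]
  linear_combination h0 - h1

theorem existsUnique_sideSum (hT : DualGr.IsTree ends) (c : E → R) (c₀ : R) :
    ∃! φ : V → R, (∀ e : E, (∑ v ∈ side ends e, φ v) = c e) ∧ (∑ v : V, φ v) = c₀ := by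
  obtain ⟨r⟩ := hT.1.1
  let z : E → R := fun e => c e - if r ∈ side ends e then c₀ else 0
  let φ : V → R := fun v => (if v = r then c₀ else 0) +
    ∑ e, ((if v = (ends e).1 then z e else 0) - if v = (ends e).2 then z e else 0)
  refine ⟨φ, ⟨fun e => ?_, ?_⟩, fun φ' hφ' => ?_⟩
  · simp only [φ, sum_add_distrib]
    rw [sum_comm, sum_eq_single_of_mem e (mem_univ e) fun e' _ he' => ?_]
    · simp [z, sum_sub_distrib, fst_mem_side ends e, snd_notMem_side ends hT e]
    · simp only [sum_sub_distrib, sum_ite_eq', sub_eq_zero]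
      exact if_congr (side_iff_of_ne ends he') rfl rfl
  · simp only [φ, sum_add_distrib]
    rw [sum_comm]
    simp [sum_sub_distrib]
  · have hs : ∀ e, ∑ v ∈ side ends e, φ v = c e := fun e => by
      simp only [φ, sum_add_distrib]
      rw [sum_comm, sum_eq_single_of_mem e (mem_univ e) fun e' _ he' => ?_]
      · simp [z, sum_sub_distrib, fst_mem_side ends e, snd_notMem_side ends hT e]
      · simp only [sum_sub_distrib, sum_ite_eq', sub_eq_zero]
        exact if_congr (side_iff_of_ne ends he') rfl rfl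
    have ht : ∑ v, φ v = c₀ := by
      simp only [φ, sum_add_distrib]
      rw [sum_comm]
      simp [sum_sub_distrib]
    funext v
    have h := pairing ends hT (fun x => φ' x - φ x) (fun x => if x = v then 1 else 0)
      (by rw [sum_sub_distrib, hφ'.2, ht, sub_self])
    simp only [sum_sub_distrib, hφ'.1, hs, sub_self, mul_zero, sum_const_zero, mul_ite, mul_one,
      sum_ite_eq', mem_univ, if_true] at h
    exact sub_eq_zero.1 h

/-! ### Forests and spanning trees -/

variable {F : Finset E}

lemma acyclic_insert (hF : Acyclic ends F) {e : E} (hr : ¬ Reach ends F (ends e).1 (ends e).2) :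
    Acyclic ends (insert e F) := by
  classical
  intro C hC hCc
  obtain ⟨γ, hγ, hsupp, hγ0⟩ := exists_cycle ends hCc
  let φ : V → ℤ := fun v => if Reach ends F (ends e).2 v then 1 else 0
  have hFφ : ∀ x ∈ F, φ (ends x).2 - φ (ends x).1 = 0 := fun x hx => by
    have h1 : Reach ends F (ends x).1 (ends x).2 := Relation.EqvGen.rel _ _ ⟨x, hx, rfl⟩
    have : Reach ends F (ends e).2 (ends x).1 ↔ Reach ends F (ends e).2 (ends x).2 :=
      ⟨fun h => h.trans _ _ _ h1, fun h => h.trans _ _ _ (h1.symm _ _)⟩
    simp only [φ, this, sub_self]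
  have hsum := cycle_orth ends hγ φ
  rw [sum_eq_single_of_mem e (mem_univ e) fun x _ hx => ?_] at hsum
  · have h2 : Reach ends F (ends e).2 (ends e).2 := Relation.EqvGen.refl _
    have h1 : ¬ Reach ends F (ends e).2 (ends e).1 := fun h => hr (h.symm _ _)
    simp only [φ, if_pos h2, if_neg h1, sub_zero, mul_one] at hsum
    refine hγ0 (hF.cycle_eq_zero ends hγ fun x hx => ?_)
    by_cases hxe : x = e
    · subst hxe; exact hsum
    · exact hsupp x fun hxC => (mem_insert.1 (hC hxC)).elim hxe hx
  · by_cases hxF : x ∈ F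
    · rw [hFφ x hxF, mul_zero]
    · rw [hsupp x fun hxC => (mem_insert.1 (hC hxC)).elim hx hxF, zero_mul]

lemma exists_spanning_forest (A : Finset E) :
    ∃ F ⊆ A, Acyclic ends F ∧ ∀ e ∈ A, Reach ends F (ends e).1 (ends e).2 := by
  classical
  induction A using Finset.induction_on with
  | empty =>
    exact ⟨∅, subset_rfl, fun C hC h => h.1.ne_empty (subset_empty.1 hC), by simp⟩
  | @insert e A he ih =>
    obtain ⟨F, hFA, hF, hr⟩ := ih
    by_cases h : Reach ends F (ends e).1 (ends e).2
    · exact ⟨F, hFA.trans (subset_insert _ _), hF, by simpa [h] using hr⟩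
    · refine ⟨insert e F, insert_subset_insert _ hFA, acyclic_insert ends hF h, fun x hx => ?_⟩
      rcases mem_insert.1 hx with rfl | hx
      · exact Relation.EqvGen.rel _ _ ⟨x, mem_insert_self _ _, rfl⟩
      · exact (hr x hx).mono fun a b ⟨y, hy, hab⟩ => ⟨y, mem_insert_of_mem hy, hab⟩

lemma reach_of_reach {A : Finset E} (hA : ∀ e ∈ A, Reach ends F (ends e).1 (ends e).2) {v w : V}
    (h : Reach ends A v w) : Reach ends F v w := by
  induction h with
  | rel a b hab =>
    obtain ⟨e, he, hab⟩ := hab
    have := hA e he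
    rwa [hab] at this
  | refl a => exact Relation.EqvGen.refl _
  | symm a b _ ih => exact ih.symm _ _
  | trans a b c _ _ i1 i2 => exact i1.trans _ _ _ i2

lemma isTree_spanEnds [Nonempty V] (hF : Acyclic ends F) (hr : ∀ v w, Reach ends F v w) :
    DualGr.IsTree (spanEnds ends F) := by
  refine ⟨⟨‹_›, fun v w => rtg_of_reach ends (hr v w)⟩, fun C hC => ?_⟩
  have hec : ∀ (D : Finset {e // e ∈ F}) v, LabGraph.endCount ends (D.map (Function.Embedding.subtype _)) v =
      LabGraph.endCount (spanEnds ends F) D v := fun D v => by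
    rw [LabGraph.endCount, LabGraph.endCount, Finset.sum_map]
    rfl
  refine hF (C.map (Function.Embedding.subtype _)) (map_subtype_subset C) ⟨hC.1.map, fun v => by
    rw [hec]; exact hC.2.1 v, fun C' hC' hne => ?_⟩
  have hC'F : ∀ x ∈ C', x ∈ F := fun x hx => map_subtype_subset C (hC'.subset hx)
  have heq : (C'.subtype (· ∈ F)).map (Function.Embedding.subtype _) = C' := subtype_map_of_mem hC'F
  obtain ⟨v, hv⟩ := hC.2.2 (C'.subtype (· ∈ F)) (map_ssubset_map.1 (by rw [heq]; exact hC'))
    (map_nonempty.1 (by rw [heq]; exact hne))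
  exact ⟨v, by rw [← heq, hec]; exact hv⟩

end Groth.Agent.PhiStabLib
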